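import Cfsg.Agent.Lib.ZStar.Recognize
import Cfsg.Prelude.Def_Transfer

/-!
# Groups of prime power order in which subgroups of equal order are isomorphic
-/

set_option autoImplicit false

namespace CfsgLib.EqualOrderConj

variable {P : Type*} [Group P]

/-- Any two subgroups of equal order are isomorphic. -/
def EqIso (P : Type*) [Group P] : Prop :=
  ∀ H K : Subgroup P, Nat.card H = Nat.card K → Nonempty (H ≃* K)

theorem mem_closure_pair_commute {a b y : P} (h : Commute a b)
    (hy : y ∈ Subgroup.closure ({a, b} : Set P)) : ∃ i j : ℤ, a ^ i * b ^ j = y := by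
  induction hy using Subgroup.closure_induction with
  | mem u hu =>
    rcases hu with rfl | rfl
    · exact ⟨1, 0, by simp⟩
    · exact ⟨0, 1, by simp⟩
  | one => exact ⟨0, 0, by simp⟩
  | mul u v _ _ hu hv =>
    obtain ⟨i, j, rfl⟩ := hu
    obtain ⟨k, l, rfl⟩ := hv
    refine ⟨i + k, j + l, ?_⟩
    rw [zpow_add, zpow_add, mul_assoc, ← mul_assoc (a ^ k), (h.zpow_zpow k j).eq]
    simp only [mul_assoc]
  | inv u _ hu =>
    obtain ⟨i, j, rfl⟩ := hu
    refine ⟨-i, -j, ?_⟩
    rw [mul_inv_rev, zpow_neg, zpow_neg]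
    exact ((h.zpow_zpow i j).inv_inv).eq

variable [Finite P] {p : ℕ} [hp : Fact p.Prime]

theorem cyclic_or_quaternion_eight (hP : IsPGroup p P) (hiso : EqIso P)
    (huniq : ∀ H K : Subgroup P, Nat.card H = p → Nat.card K = p → H = K) :
    IsCyclic P ∨ (p = 2 ∧ Nonempty (P ≃* QuaternionGroup 2)) := by
  by_cases hp2 : p = 2
  swap
  · exact Or.inl (ZStar.cyclic_of_unique_subgroup hp2 hP huniq)
  subst hp2
  have hu : ∀ x y : P, orderOf x = 2 → orderOf y = 2 → x = y := by
    intro x y hx hy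
    have h := huniq (Subgroup.zpowers x) (Subgroup.zpowers y) (by rw [Nat.card_zpowers, hx])
      (by rw [Nat.card_zpowers, hy])
    obtain ⟨k, hk⟩ : y ∈ Subgroup.zpowers x := h ▸ Subgroup.mem_zpowers y
    have hk' : x ^ k = y := hk
    rcases Int.even_or_odd k with ⟨m, rfl⟩ | ⟨m, rfl⟩
    · have : y = 1 := by
        rw [← hk', ← two_mul, zpow_mul, zpow_two, ← pow_two, ← hx, pow_orderOf_eq_one, one_zpow]
      rw [this, orderOf_one] at hy
      omega
    · rw [← hk', zpow_add_one, zpow_mul, zpow_two, ← pow_two, ← hx, pow_orderOf_eq_one, one_zpow,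
        one_mul]
  rcases ZStar.cyclic_or_quaternion hP hu with h | ⟨n, ⟨e⟩⟩
  · exact Or.inl h
  rcases Nat.lt_or_ge n 2 with hn | hn
  · interval_cases n
    · left
      have : IsCyclic (QuaternionGroup (2 ^ 0)) := QuaternionGroup.quaternionGroup_one_isCyclic
      exact isCyclic_of_surjective e.symm e.symm.surjective
    · exact Or.inr ⟨rfl, ⟨e⟩⟩
  exfalso
  have : NeZero (2 ^ n) := ⟨by positivity⟩
  have hN : 4 ≤ 2 ^ n := by
    calc 4 = 2 ^ 2 := by norm_num
      _ ≤ 2 ^ n := Nat.pow_le_pow_right (by norm_num) hn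
  set a := e.symm (QuaternionGroup.a 1) with ha
  set b := e.symm (QuaternionGroup.xa 0) with hb
  have hoa : orderOf a = 2 * 2 ^ n := by rw [ha, MulEquiv.orderOf_eq, QuaternionGroup.orderOf_a_one]
  have hob : orderOf b = 4 := by rw [hb, MulEquiv.orderOf_eq, QuaternionGroup.orderOf_xa]
  have hcard : Nat.card P = 4 * 2 ^ n := by
    rw [Nat.card_congr e.toEquiv, Nat.card_eq_fintype_card, QuaternionGroup.card]
  obtain ⟨M, hM, hbM⟩ := Sylow.exists_subgroup_card_pow_prime_le (G := P) 2 (n := 2) (m := n + 1)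
    (by rw [hcard]; exact ⟨2, by ring⟩) (Subgroup.zpowers b)
    (by rw [Nat.card_zpowers, hob]; rfl) (by omega)
  obtain ⟨f⟩ := hiso M (Subgroup.zpowers a) (by
    rw [hM, Nat.card_zpowers, hoa]; ring)
  have : IsCyclic M := isCyclic_of_surjective f.symm f.symm.surjective
  obtain ⟨⟨z, hzM⟩, hz⟩ := IsCyclic.exists_generator (α := M)
  have hzM' : orderOf z = 2 * 2 ^ n := by
    have h := orderOf_eq_card_of_forall_mem_zpowers hz
    rw [Subgroup.orderOf_mk, hM] at h
    rw [h]; ring
  rcases h : e z with i | i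
  · obtain ⟨k, hk⟩ := hz ⟨b, hbM (Subgroup.mem_zpowers b)⟩
    have hk' : z ^ k = b := congrArg Subtype.val hk
    have h2 := congrArg e hk'
    rw [map_zpow, h, hb, MulEquiv.apply_symm_apply] at h2
    have hmem : (QuaternionGroup.a i : QuaternionGroup (2 ^ n)) ^ k ∈
        Subgroup.zpowers (QuaternionGroup.a 1 : QuaternionGroup (2 ^ n)) := by
      refine Subgroup.zpow_mem _ ?_ k
      refine ⟨(i.val : ℤ), ?_⟩
      show (QuaternionGroup.a 1 : QuaternionGroup (2 ^ n)) ^ (i.val : ℤ) = _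
      rw [zpow_natCast, QuaternionGroup.a_one_pow]
      simp
    rw [h2] at hmem
    obtain ⟨j, hj⟩ := hmem
    have hj' : (QuaternionGroup.a 1 : QuaternionGroup (2 ^ n)) ^ j = QuaternionGroup.xa 0 := hj
    obtain ⟨j', hj''⟩ : ∃ j' : ℕ, (QuaternionGroup.a 1 : QuaternionGroup (2 ^ n)) ^ j' =
        QuaternionGroup.xa 0 := by
      rw [← zpow_mod_orderOf] at hj'
      obtain ⟨j', hj2⟩ := Int.eq_ofNat_of_zero_le (Int.emod_nonneg j (by
        simp [(orderOf_pos (QuaternionGroup.a 1 : QuaternionGroup (2 ^ n))).ne']) :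
        0 ≤ j % (orderOf (QuaternionGroup.a 1 : QuaternionGroup (2 ^ n)) : ℤ))
      exact ⟨j', by rw [← zpow_natCast, ← hj2, hj']⟩
    rw [QuaternionGroup.a_one_pow] at hj''
    simp at hj''
  · have h2 : orderOf (e z) = 4 := by rw [h, QuaternionGroup.orderOf_xa]
    rw [MulEquiv.orderOf_eq] at h2
    omega

theorem exponent_of_two (hP : IsPGroup p P) (hiso : EqIso P)
    (hne : ∃ H K : Subgroup P, Nat.card H = p ∧ Nat.card K = p ∧ H ≠ K) :
    ∀ x : P, x ^ p = 1 := by
  obtain ⟨H, K, hH, hK, hne⟩ := hne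
  have : Nontrivial P := by
    by_contra hn
    rw [not_nontrivial_iff_subsingleton] at hn
    have := hH ▸ Nat.card_of_subsingleton (1 : H)
    exact hp.out.ne_one this
  have : Nontrivial (Subgroup.center P) := hP.center_nontrivial
  obtain ⟨c, hc, hco⟩ : ∃ c ∈ Subgroup.center P, orderOf c = p := by
    obtain ⟨k, hk0, hk⟩ := (hP.to_subgroup (Subgroup.center P)).nontrivial_iff_card.mp this
    obtain ⟨⟨c, hc⟩, hc2⟩ := exists_prime_orderOf_dvd_card' p
      (hk ▸ dvd_pow_self p (by omega) : p ∣ Nat.card (Subgroup.center P))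
    exact ⟨c, hc, by rwa [Subgroup.orderOf_mk] at hc2⟩
  obtain ⟨U, hU, hUne⟩ : ∃ U : Subgroup P, Nat.card U = p ∧ U ≠ Subgroup.zpowers c := by
    by_cases h : H = Subgroup.zpowers c
    · exact ⟨K, hK, fun e => hne (h.trans e.symm)⟩
    · exact ⟨H, hH, h⟩
  obtain ⟨u, hu, huc⟩ : ∃ u ∈ U, u ∉ Subgroup.zpowers c := by
    by_contra h
    push Not at h
    exact hUne (Subgroup.eq_of_le_of_card_ge h (by rw [Nat.card_zpowers, hco, hU]))
  have hup : u ^ p = 1 := by
    rw [← hU]; exact congrArg Subtype.val (pow_card_eq_one' (x := (⟨u, hu⟩ : U)))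
  set V := Subgroup.closure ({c, u} : Set P) with hV
  have hcomm : ∀ a ∈ ({c, u} : Set P), ∀ b ∈ ({c, u} : Set P), a * b = b * a := by
    intro a ha b hb
    simp only [Set.mem_insert_iff, Set.mem_singleton_iff] at ha hb
    rcases ha with rfl | rfl <;> rcases hb with rfl | rfl
    · rfl
    · exact (Subgroup.mem_center_iff.mp hc _).symm
    · exact Subgroup.mem_center_iff.mp hc _
    · rfl
  have hVexp : ∀ v ∈ V, v ^ p = 1 := by
    intro v hv
    have : IsMulCommutative V := Subgroup.isMulCommutative_closure hcomm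
    induction hv using Subgroup.closure_induction with
    | mem a ha =>
      rcases ha with rfl | rfl
      · rw [← hco, pow_orderOf_eq_one]
      · exact hup
    | one => exact one_pow _
    | mul a b ha hb iha ihb =>
      have : Commute a b := congrArg Subtype.val
        (mul_comm' (⟨a, ha⟩ : Subgroup.closure ({c, u} : Set P)) ⟨b, hb⟩)
      rw [this.mul_pow, iha, ihb, one_mul]
    | inv a _ iha => rw [inv_pow, iha, inv_one]
  have hVlt : p < Nat.card V := by
    have hle : Subgroup.zpowers c ≤ V :=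
      Subgroup.zpowers_le.mpr (Subgroup.subset_closure (by simp))
    have hlt : Subgroup.zpowers c < V := lt_of_le_of_ne hle fun e => huc (e ▸ Subgroup.subset_closure (by simp))
    calc p = Nat.card (Subgroup.zpowers c) := by rw [Nat.card_zpowers, hco]
      _ < _ := Set.Finite.card_lt_card (Set.toFinite _) hlt
  obtain ⟨W, hWV, hW⟩ := Sylow.exists_subgroup_le_card_pow_prime_of_le_card (n := 2) hp.out hP
    (H := V) (by
      obtain ⟨k, hk⟩ := (hP.to_subgroup V).exists_card_eq
      rw [hk] at hVlt ⊢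
      refine Nat.pow_le_pow_right hp.out.pos ?_
      by_contra h
      interval_cases k <;> simp at hVlt
      exact absurd hVlt (by have := hp.out.one_lt; omega))
  intro x
  by_contra hx
  obtain ⟨k, hk⟩ := IsPGroup.iff_orderOf.mp hP x
  have hk2 : 2 ≤ k := by
    by_contra h
    apply hx
    interval_cases k
    · rw [pow_zero, orderOf_eq_one_iff] at hk; simp [hk]
    · rw [← pow_one p, ← hk, pow_orderOf_eq_one]
  obtain ⟨f⟩ := hiso (Subgroup.zpowers (x ^ p ^ (k - 2))) W (by
    rw [Nat.card_zpowers, hW, orderOf_pow_of_dvd (pow_ne_zero _ hp.out.ne_zero)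
      (hk ▸ pow_dvd_pow p (by omega)), hk, Nat.pow_div (by omega) hp.out.pos,
      show k - (k - 2) = 2 by omega])
  have h1 := congrArg Subtype.val (f.symm_apply_apply ⟨_, Subgroup.mem_zpowers _⟩ : _)
  have h2 : (f ⟨x ^ p ^ (k - 2), Subgroup.mem_zpowers _⟩) ^ p = 1 :=
    Subtype.ext (by push_cast; exact hVexp _ (hWV (SetLike.coe_mem _)))
  rw [← map_pow, MulEquiv.map_eq_one_iff] at h2
  have h3 := congrArg Subtype.val h2
  simp only [SubmonoidClass.coe_pow, OneMemClass.coe_one, ← pow_mul] at h3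
  have := orderOf_dvd_of_pow_eq_one h3
  rw [hk, ← pow_succ, Nat.pow_dvd_pow_iff_le_right hp.out.one_lt] at this
  omega

/-- In exponent `p`, two noncommuting elements with central commutator generate a subgroup of
order at most `p ^ 3`. -/
theorem card_closure_pair (hexp : ∀ x : P, x ^ p = 1) {x y : P}
    (hc : x * y * x⁻¹ * y⁻¹ ∈ Subgroup.center P) :
    Nat.card (Subgroup.closure ({x, y} : Set P)) ≤ p ^ 3 := by
  set c := x * y * x⁻¹ * y⁻¹ with hcdef
  set Z := Subgroup.zpowers c with hZ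
  have hZn : Z.Normal := ⟨fun a ha g => by
    have : a ∈ Subgroup.center P := Subgroup.zpowers_le.mpr hc ha
    rwa [Subgroup.mem_center_iff.mp this g, mul_inv_cancel_right]⟩
  set q := QuotientGroup.mk' Z
  have hcomm : Commute (q x) (q y) := by
    have h : q c = 1 := (QuotientGroup.eq_one_iff c).mpr (Subgroup.mem_zpowers c)
    rw [hcdef, map_mul, map_mul, map_mul, map_inv, map_inv] at h
    show q x * q y = q y * q x
    calc q x * q y = q x * q y * (q x)⁻¹ * (q y)⁻¹ * (q y * q x) := by group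
      _ = q y * q x := by rw [h, one_mul]
  have hzc : ∀ a : P ⧸ Z, Nat.card (Subgroup.zpowers a) ≤ p := fun a => by
    rw [Nat.card_zpowers]
    refine Nat.le_of_dvd hp.out.pos (orderOf_dvd_of_pow_eq_one ?_)
    obtain ⟨b, rfl⟩ := QuotientGroup.mk_surjective a
    rw [← QuotientGroup.mk_pow, hexp, QuotientGroup.mk_one]
  have hprod : ∀ a ∈ (Subgroup.closure ({x, y} : Set P)).map q, ∃ u : Subgroup.zpowers (q x) ×
      Subgroup.zpowers (q y), (u.1 : P ⧸ Z) * u.2 = a := by
    intro a ha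
    rw [MonoidHom.map_closure, Set.image_pair] at ha
    obtain ⟨i, j, rfl⟩ := mem_closure_pair_commute hcomm ha
    exact ⟨(⟨_, i, rfl⟩, ⟨_, j, rfl⟩), rfl⟩
  choose F hF using hprod
  have hmap : Nat.card ((Subgroup.closure ({x, y} : Set P)).map q) ≤ p * p := by
    calc _ ≤ Nat.card (Subgroup.zpowers (q x) × Subgroup.zpowers (q y)) :=
          Nat.card_le_card_of_injective (fun a => F a.1 a.2) fun a b h => Subtype.ext (by
            rw [← hF a.1 a.2, ← hF b.1 b.2]
            exact congrArg (fun u : Subgroup.zpowers (q x) × Subgroup.zpowers (q y) =>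
              (u.1 : P ⧸ Z) * u.2) h)
      _ ≤ p * p := by rw [Nat.card_prod]; exact Nat.mul_le_mul (hzc _) (hzc _)
  have hcm : Nat.card (Subgroup.closure ({x, y} : Set P)) ≤
      Nat.card ((Subgroup.closure ({x, y} : Set P)).map q) * Nat.card Z := by
    set H := Subgroup.closure ({x, y} : Set P)
    have h1 := (q.comp H.subtype).ker.card_eq_card_quotient_mul_card_subgroup
    rw [h1, Nat.card_congr (QuotientGroup.quotientKerEquivRange _).toEquiv, MonoidHom.range_comp,
      Subgroup.range_subtype]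
    refine Nat.mul_le_mul_left _ (Nat.card_le_card_of_injective
      (fun a => (⟨((a : H) : P), (QuotientGroup.eq_one_iff _).mp a.2⟩ : Z)) ?_)
    intro a b h
    exact Subtype.ext (Subtype.ext (congrArg (fun u : Z => (u : P)) h))
  have hcZ : Nat.card Z ≤ p := by
    rw [hZ, Nat.card_zpowers]
    exact Nat.le_of_dvd hp.out.pos (orderOf_dvd_of_pow_eq_one (hexp c))
  calc _ ≤ _ := hcm
    _ ≤ p * p * p := Nat.mul_le_mul hmap hcZ
    _ = p ^ 3 := by ring

/-- An abelian subgroup of order at least `p ^ 3`. -/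
theorem exists_big_abelian (hP : IsPGroup p P) (hexp : ∀ x : P, x ^ p = 1)
    (hbig : p ^ 4 ≤ Nat.card P) :
    ∃ A : Subgroup P, IsMulCommutative A ∧ p ^ 3 ≤ Nat.card A := by
  have h1p := hp.out.one_lt
  have hord : ∀ a : P, a ≠ 1 → orderOf a = p := fun a ha => orderOf_eq_prime (hexp a) ha
  have : Nontrivial P := Finite.one_lt_card_iff_nontrivial.mp
    ((Nat.one_lt_pow (by norm_num) h1p).trans_le hbig)
  have : Nontrivial (Subgroup.center P) := hP.center_nontrivial
  obtain ⟨⟨c, hc⟩, hc1⟩ := exists_ne (1 : Subgroup.center P)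
  have hc1' : c ≠ 1 := fun e => hc1 (Subtype.ext e)
  set Z := Subgroup.zpowers c with hZ
  have hZc : Z ≤ Subgroup.center P := Subgroup.zpowers_le.mpr hc
  have hZn : Z.Normal := ⟨fun a ha g => by
    rwa [Subgroup.mem_center_iff.mp (hZc ha) g, mul_inv_cancel_right]⟩
  have hcardZ : Nat.card Z = p := by rw [hZ, Nat.card_zpowers, hord c hc1']
  have hq : p ^ 3 ≤ Nat.card (P ⧸ Z) := by
    have h := Z.card_eq_card_quotient_mul_card_subgroup
    rw [hcardZ] at h
    refine Nat.le_of_mul_le_mul_right (c := p) ?_ hp.out.pos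
    rw [← h, ← pow_succ]
    exact hbig
  have : Nontrivial (P ⧸ Z) := Finite.one_lt_card_iff_nontrivial.mp
    ((Nat.one_lt_pow (by norm_num) h1p).trans_le hq)
  have : Nontrivial (Subgroup.center (P ⧸ Z)) := (hP.to_quotient Z).center_nontrivial
  obtain ⟨⟨xb, hxb⟩, hxb1⟩ := exists_ne (1 : Subgroup.center (P ⧸ Z))
  obtain ⟨x, rfl⟩ := QuotientGroup.mk_surjective xb
  have hxZ : x ∉ Z := fun h => hxb1 (Subtype.ext ((QuotientGroup.eq_one_iff x).mpr h))
  have hxcomm : ∀ y : P, x * y * x⁻¹ * y⁻¹ ∈ Z := by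
    intro y
    rw [← QuotientGroup.eq_one_iff, QuotientGroup.mk_mul, QuotientGroup.mk_mul, QuotientGroup.mk_mul,
      ← Subgroup.mem_center_iff.mp hxb (y : P ⧸ Z)]
    simp [QuotientGroup.mk_inv]
  let φ : P →* P :=
    { toFun := fun y => x * y * x⁻¹ * y⁻¹
      map_one' := by group
      map_mul' := fun a b => by
        have h : (x * b * x⁻¹ * b⁻¹) * a⁻¹ = a⁻¹ * (x * b * x⁻¹ * b⁻¹) :=
          (Subgroup.mem_center_iff.mp (hZc (hxcomm b)) _).symm
        calc x * (a * b) * x⁻¹ * (a * b)⁻¹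
            = x * a * x⁻¹ * ((x * b * x⁻¹ * b⁻¹) * a⁻¹) := by group
          _ = x * a * x⁻¹ * (a⁻¹ * (x * b * x⁻¹ * b⁻¹)) := by rw [h]
          _ = x * a * x⁻¹ * a⁻¹ * (x * b * x⁻¹ * b⁻¹) := by group }
  set C := φ.ker with hC
  have hCmem : ∀ y, y ∈ C ↔ x * y = y * x := by
    intro y
    rw [hC, MonoidHom.mem_ker]
    show x * y * x⁻¹ * y⁻¹ = 1 ↔ _
    rw [mul_inv_eq_one, mul_inv_eq_iff_eq_mul]
  have hCcard : p ^ 3 ≤ Nat.card C := by
    have hle : φ.range ≤ Z := by rintro _ ⟨y, rfl⟩; exact hxcomm y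
    have h := C.card_eq_card_quotient_mul_card_subgroup
    rw [hC, Nat.card_congr (QuotientGroup.quotientKerEquivRange φ).toEquiv] at h
    rw [hC]
    suffices h3 : p * p ^ 3 ≤ p * Nat.card φ.ker from Nat.le_of_mul_le_mul_left h3 hp.out.pos
    calc p * p ^ 3 = p ^ 4 := by ring
      _ ≤ Nat.card P := hbig
      _ = _ := h
      _ ≤ p * Nat.card φ.ker := Nat.mul_le_mul_right _ (hcardZ ▸ Subgroup.card_le_of_le hle)
  set V := Subgroup.closure ({c, x} : Set P) with hV
  have hcx : x * c = c * x := Subgroup.mem_center_iff.mp hc x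
  have hVle : Nat.card V ≤ p ^ 2 := by
    have hprod : ∀ a ∈ V, ∃ u : Subgroup.zpowers c × Subgroup.zpowers x, (u.1 : P) * u.2 = a := by
      intro a ha
      rw [hV] at ha
      obtain ⟨i, j, rfl⟩ := mem_closure_pair_commute (show Commute c x from hcx.symm) ha
      exact ⟨(⟨_, i, rfl⟩, ⟨_, j, rfl⟩), rfl⟩
    choose F hF using hprod
    calc _ ≤ Nat.card (Subgroup.zpowers c × Subgroup.zpowers x) :=
          Nat.card_le_card_of_injective (fun a => F a.1 a.2) fun a b h => Subtype.ext (by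
            rw [← hF a.1 a.2, ← hF b.1 b.2]
            exact congrArg (fun u : Subgroup.zpowers c × Subgroup.zpowers x => (u.1 : P) * u.2) h)
      _ ≤ p ^ 2 := by
        rw [Nat.card_prod, pow_two, Nat.card_zpowers, Nat.card_zpowers, hord c hc1',
          hord x fun e => hxZ (e ▸ one_mem _)]
  obtain ⟨w, hwC, hwV⟩ : ∃ w ∈ C, w ∉ V := by
    by_contra h
    push Not at h
    have := (Subgroup.card_le_of_le h).trans hVle
    have := Nat.pow_lt_pow_right h1p (show 2 < 3 by norm_num)
    omega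
  refine ⟨Subgroup.closure ({c, x, w} : Set P), Subgroup.isMulCommutative_closure ?_, ?_⟩
  · intro a ha b hb
    simp only [Set.mem_insert_iff, Set.mem_singleton_iff] at ha hb
    rcases ha with rfl | rfl | rfl <;> rcases hb with rfl | rfl | rfl
    all_goals first
      | rfl
      | exact Subgroup.mem_center_iff.mp hc _
      | exact (Subgroup.mem_center_iff.mp hc _).symm
      | exact (hCmem _).mp hwC
      | exact ((hCmem _).mp hwC).symm
  · have hlt1 : Z < V := lt_of_le_of_ne (Subgroup.zpowers_le.mpr (Subgroup.subset_closure (by simp)))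
      fun e => hxZ (e ▸ Subgroup.subset_closure (by simp))
    have hlt2 : V < Subgroup.closure ({c, x, w} : Set P) :=
      lt_of_le_of_ne (Subgroup.closure_mono (by intro a ha; simp at ha ⊢; tauto))
        fun e => hwV (e ▸ Subgroup.subset_closure (by simp))
    have h1 := Set.Finite.card_lt_card (Set.toFinite _) hlt1
    have h2 := Set.Finite.card_lt_card (Set.toFinite _) hlt2
    obtain ⟨i, hi⟩ := (hP.to_subgroup V).exists_card_eq
    obtain ⟨j, hj⟩ := (hP.to_subgroup (Subgroup.closure ({c, x, w} : Set P))).exists_card_eq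
    change Nat.card Z < Nat.card V at h1
    change Nat.card V < Nat.card ↥(Subgroup.closure ({c, x, w} : Set P)) at h2
    rw [hcardZ, hi] at h1
    rw [hi, hj] at h2
    rw [hj]
    have hi1 : 1 < i := (Nat.pow_lt_pow_iff_right h1p).mp (by simpa using h1)
    have hj1 : i < j := (Nat.pow_lt_pow_iff_right h1p).mp h2
    exact Nat.pow_le_pow_right hp.out.pos (by omega)

theorem card_le_cube (hP : IsPGroup p P) (hiso : EqIso P) (hexp : ∀ x : P, x ^ p = 1)
    (hna : ¬ IsMulCommutative P) : Nat.card P ≤ p ^ 3 := by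
  by_contra hbig
  push Not at hbig
  have hbig4 : p ^ 4 ≤ Nat.card P := by
    obtain ⟨k, hk⟩ := hP.exists_card_eq
    rw [hk] at hbig ⊢
    exact Nat.pow_le_pow_right hp.out.pos ((Nat.pow_lt_pow_iff_right hp.out.one_lt).mp hbig)
  obtain ⟨A, hA, hAc⟩ := exists_big_abelian hP hexp hbig4
  -- an element of the second centre and one not commuting with it
  have : Nontrivial (P ⧸ Subgroup.center P) := by
    by_contra hn
    rw [not_nontrivial_iff_subsingleton, QuotientGroup.subsingleton_iff] at hn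
    exact hna ⟨⟨fun a b => (Subgroup.mem_center_iff.mp (hn ▸ Subgroup.mem_top b) a)⟩⟩
  have : Nontrivial (Subgroup.center (P ⧸ Subgroup.center P)) :=
    (hP.to_quotient _).center_nontrivial
  obtain ⟨⟨xb, hxb⟩, hxb1⟩ := exists_ne (1 : Subgroup.center (P ⧸ Subgroup.center P))
  obtain ⟨x, rfl⟩ := QuotientGroup.mk_surjective xb
  have hxZ : x ∉ Subgroup.center P := fun h =>
    hxb1 (Subtype.ext ((QuotientGroup.eq_one_iff x).mpr h))
  obtain ⟨y, hy⟩ : ∃ y, y * x ≠ x * y := by
    simpa [Subgroup.mem_center_iff] using hxZ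
  have hc : x * y * x⁻¹ * y⁻¹ ∈ Subgroup.center P := by
    rw [← QuotientGroup.eq_one_iff, QuotientGroup.mk_mul, QuotientGroup.mk_mul, QuotientGroup.mk_mul,
      ← Subgroup.mem_center_iff.mp hxb (y : P ⧸ Subgroup.center P)]
    simp [QuotientGroup.mk_inv]
  set H := Subgroup.closure ({x, y} : Set P) with hH
  have hHc : Nat.card H = p ^ 3 := by
    refine le_antisymm (card_closure_pair hexp hc) ?_
    obtain ⟨k, hk⟩ := (hP.to_subgroup H).exists_card_eq
    rw [hk]
    refine Nat.pow_le_pow_right hp.out.pos ?_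
    by_contra hk3
    have hcomm : IsMulCommutative H := by
      interval_cases k
      · have : Subsingleton H := (Nat.card_eq_one_iff_unique.mp (by simpa using hk)).1
        exact ⟨⟨fun a b => Subsingleton.elim _ _⟩⟩
      · have : IsCyclic H := isCyclic_of_prime_card (by simpa using hk)
        exact ⟨⟨fun a b => IsCyclic.commGroup.mul_comm a b⟩⟩
      · exact IsPGroup.isMulCommutative_of_card_eq_prime_sq hk
    exact hy (congrArg Subtype.val (mul_comm' (⟨y, Subgroup.subset_closure (by simp)⟩ : H)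
      ⟨x, Subgroup.subset_closure (by simp)⟩))
  obtain ⟨B, hBA, hB⟩ := Sylow.exists_subgroup_le_card_pow_prime_of_le_card (n := 3) hp.out hP
    (H := A) hAc
  obtain ⟨f⟩ := hiso H B (hHc.trans hB.symm)
  apply hy
  have h : f ⟨y, Subgroup.subset_closure (by simp)⟩ * f ⟨x, Subgroup.subset_closure (by simp)⟩ =
      f ⟨x, Subgroup.subset_closure (by simp)⟩ * f ⟨y, Subgroup.subset_closure (by simp)⟩ :=
    Subtype.ext (congrArg Subtype.val (mul_comm'
      (⟨((f ⟨y, Subgroup.subset_closure (by simp)⟩ : B) : P), hBA (SetLike.coe_mem _)⟩ : A)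
      ⟨((f ⟨x, Subgroup.subset_closure (by simp)⟩ : B) : P), hBA (SetLike.coe_mem _)⟩) :)
  rw [← map_mul, ← map_mul] at h
  exact congrArg Subtype.val (f.injective h)

/-- The possible groups. -/
theorem shape (hP : IsPGroup p P) (hiso : EqIso P) :
    IsCyclic P ∨ (p = 2 ∧ Nonempty (P ≃* QuaternionGroup 2)) ∨
      (IsMulCommutative P ∧ ∀ x : P, x ^ p = 1) ∨
      (p ≠ 2 ∧ Nat.card P = p ^ 3 ∧ ¬ IsMulCommutative P ∧ ∀ x : P, x ^ p = 1) := by
  by_cases huniq : ∀ H K : Subgroup P, Nat.card H = p → Nat.card K = p → H = K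
  · rcases cyclic_or_quaternion_eight hP hiso huniq with h | h
    · exact Or.inl h
    · exact Or.inr (Or.inl h)
  push Not at huniq
  obtain ⟨H, K, hH, hK, hne⟩ := huniq
  have hexp := exponent_of_two hP hiso ⟨H, K, hH, hK, hne⟩
  by_cases hab : IsMulCommutative P
  · exact Or.inr (Or.inr (Or.inl ⟨hab, hexp⟩))
  refine Or.inr (Or.inr (Or.inr ⟨?_, ?_, hab, hexp⟩))
  · rintro rfl
    refine hab ⟨⟨fun a b => ?_⟩⟩
    have hi : ∀ c : P, c⁻¹ = c := fun c => by
      rw [inv_eq_iff_mul_eq_one, ← pow_two]; exact hexp c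
    calc a * b = (a * b)⁻¹ := (hi _).symm
      _ = b⁻¹ * a⁻¹ := mul_inv_rev _ _
      _ = b * a := by rw [hi, hi]
  · obtain ⟨k, hk⟩ := hP.exists_card_eq
    refine le_antisymm (card_le_cube hP hiso hexp hab) ?_
    rw [hk]
    refine Nat.pow_le_pow_right hp.out.pos ?_
    by_contra hk3
    apply hab
    interval_cases k
    · have : Subsingleton P := (Nat.card_eq_one_iff_unique.mp (by simpa using hk)).1
      exact ⟨⟨fun a b => Subsingleton.elim _ _⟩⟩
    · have : IsCyclic P := isCyclic_of_prime_card (by simpa using hk)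
      exact ⟨⟨fun a b => IsCyclic.commGroup.mul_comm a b⟩⟩
    · exact IsPGroup.isMulCommutative_of_card_eq_prime_sq hk

end CfsgLib.EqualOrderConj
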