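import Cfsg.Agent.Lib.EqualOrderConj.Basic

/-!
# A nonabelian Sylow group of order `p ^ 3` with all subgroups of equal order conjugate
-/

set_option autoImplicit false

namespace CfsgLib.EqualOrderConj

open scoped Pointwise

variable {G : Type*} [Group G] [Finite G] {p : ℕ} [hp : Fact p.Prime]

/-- Two Sylow subgroups contained in a subgroup are conjugate in it. -/
theorem sylow_conj_inside {M : Subgroup G} (P Q : Sylow p G) (hP : (P : Subgroup G) ≤ M)
    (hQ : (Q : Subgroup G) ≤ M) :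
    ∃ m ∈ M, ∀ x, x ∈ (Q : Subgroup G) → m * x * m⁻¹ ∈ (P : Subgroup G) := by
  obtain ⟨m, hm⟩ := MulAction.exists_smul_eq M (Q.subtype hQ) (P.subtype hP)
  refine ⟨m, m.2, fun x hx => ?_⟩
  have hxQ : (⟨x, hQ hx⟩ : M) ∈ (Q.subtype hQ : Subgroup M) := hx
  have h : m * ⟨x, hQ hx⟩ * m⁻¹ ∈ ((m • Q.subtype hQ : Sylow p M) : Subgroup M) :=
    ⟨_, hxQ, rfl⟩
  rw [hm] at h
  exact h

variable (P : Sylow p G)

/-- The centre of `P` as a subgroup of `G`. -/
def zc : Subgroup G := (Subgroup.center (P : Subgroup G)).map (P : Subgroup G).subtype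

theorem mem_zc {z : G} : z ∈ zc P ↔ z ∈ (P : Subgroup G) ∧ ∀ y ∈ (P : Subgroup G), y * z = z * y := by
  constructor
  · rintro ⟨⟨z, hz⟩, hc, rfl⟩
    exact ⟨hz, fun y hy => congrArg Subtype.val (Subgroup.mem_center_iff.mp hc ⟨y, hy⟩)⟩
  · rintro ⟨hz, h⟩
    exact ⟨⟨z, hz⟩, Subgroup.mem_center_iff.mpr fun y => Subtype.ext (h y y.2), rfl⟩

theorem zc_le : zc P ≤ (P : Subgroup G) := fun _ hz => ((mem_zc P).mp hz).1

/-- The situation: nonabelian of order `p ^ 3` and exponent `p`. -/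
structure Cube : Prop where
  odd : p ≠ 2
  card : Nat.card (P : Subgroup G) = p ^ 3
  nonab : ¬ IsMulCommutative (P : Subgroup G)
  exp : ∀ x ∈ (P : Subgroup G), x ^ p = 1

variable {P}

/-- The subgroups of order `p ^ 2` in `P`. -/
def Mid (P : Sylow p G) : Type _ :=
  {E : Subgroup G // E ≤ (P : Subgroup G) ∧ Nat.card E = p ^ 2}

theorem Cube.card_zc (h : Cube P) : Nat.card (zc P) = p := by
  have hP : IsPGroup p (P : Subgroup G) := P.2
  have : Nontrivial (P : Subgroup G) := Finite.one_lt_card_iff_nontrivial.mp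
    (h.card ▸ Nat.one_lt_pow (by norm_num) hp.out.one_lt)
  rw [zc, Subgroup.card_map_of_injective (P : Subgroup G).subtype_injective]
  obtain ⟨k, hk0, hk⟩ := IsPGroup.card_center_eq_prime_pow h.card (by norm_num)
  have hmul := (Subgroup.center (P : Subgroup G)).card_eq_card_quotient_mul_card_subgroup
  rw [h.card, hk] at hmul
  have hk1 : k ≤ 1 := by
    by_contra hk1
    have hdvd : Nat.card ((P : Subgroup G) ⧸ Subgroup.center (P : Subgroup G)) ≤ p := by
      refine Nat.le_of_mul_le_mul_right (c := p ^ 2) ?_ (pow_pos hp.out.pos 2)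
      calc _ ≤ Nat.card ((P : Subgroup G) ⧸ Subgroup.center (P : Subgroup G)) * p ^ k :=
            Nat.mul_le_mul_left _ (Nat.pow_le_pow_right hp.out.pos (by omega))
        _ = p * p ^ 2 := by rw [← hmul]; ring
    have : IsCyclic ((P : Subgroup G) ⧸ Subgroup.center (P : Subgroup G)) := by
      obtain ⟨j, hj⟩ := (hP.to_quotient (Subgroup.center (P : Subgroup G))).exists_card_eq
      rcases Nat.lt_or_ge j 1 with hj1 | hj1
      · have : Subsingleton ((P : Subgroup G) ⧸ Subgroup.center (P : Subgroup G)) :=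
          (Nat.card_eq_one_iff_unique.mp (by rw [hj]; interval_cases j; simp)).1
        exact isCyclic_of_subsingleton
      · refine isCyclic_of_prime_card (p := p) ?_
        rw [hj] at hdvd ⊢
        replace hdvd : p ^ j ≤ p ^ 1 := by simpa using hdvd
        have := (Nat.pow_le_pow_iff_right hp.out.one_lt).mp hdvd
        rw [show j = 1 by omega, pow_one]
    exact h.nonab (isMulCommutative_of_isCyclic_quotient_center_self _)
  rw [hk, show k = 1 by omega, pow_one]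

theorem Cube.pairwise (h : Cube P) {E : Subgroup G} (hEc : Nat.card E = p ^ 2) :
    ∀ a ∈ E, ∀ b ∈ E, a * b = b * a := fun a ha b hb => by
  have := IsPGroup.isMulCommutative_of_card_eq_prime_sq hEc
  have _ := h
  exact congrArg Subtype.val (mul_comm' (⟨a, ha⟩ : E) ⟨b, hb⟩)

theorem Cube.not_comm_subgroup (h : Cube P) {H : Subgroup G} (hH : H ≤ (P : Subgroup G))
    [IsMulCommutative H] : Nat.card H ≠ p ^ 3 := by
  intro hc
  have he : H = (P : Subgroup G) := Subgroup.eq_of_le_of_card_ge hH (by rw [hc, h.card])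
  refine h.nonab ?_
  rw [← he]
  infer_instance

theorem Cube.zc_le_mid (h : Cube P) (E : Mid P) : zc P ≤ E.1 := by
  by_contra hle
  have hcomm : ∀ a ∈ ((E.1 : Set G) ∪ (zc P : Set G)), ∀ b ∈ ((E.1 : Set G) ∪ (zc P : Set G)),
      a * b = b * a := by
    rintro a (ha | ha) b (hb | hb)
    · exact h.pairwise E.2.2 a ha b hb
    · exact ((mem_zc P).mp hb).2 a (E.2.1 ha)
    · exact (((mem_zc P).mp ha).2 b (E.2.1 hb)).symm
    · exact (((mem_zc P).mp ha).2 b (zc_le P hb)).symm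
  set H := Subgroup.closure ((E.1 : Set G) ∪ (zc P : Set G)) with hH
  have : IsMulCommutative H := Subgroup.isMulCommutative_closure hcomm
  have hHP : H ≤ (P : Subgroup G) :=
    (Subgroup.closure_le _).mpr (Set.union_subset E.2.1 (zc_le P))
  have hlt : E.1 < H := lt_of_le_of_ne
    (fun x hx => Subgroup.subset_closure (Or.inl hx))
    fun e => hle fun x hx => e ▸ Subgroup.subset_closure (Or.inr hx)
  have h1 := Set.Finite.card_lt_card (Set.toFinite _) hlt
  change Nat.card E.1 < Nat.card H at h1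
  obtain ⟨j, hj⟩ := (P.2.to_le hHP).exists_card_eq
  have h2 : Nat.card H ≤ p ^ 3 := h.card ▸ Subgroup.card_le_of_le hHP
  rw [E.2.2, hj] at h1
  rw [hj] at h2
  have h3 := (Nat.pow_lt_pow_iff_right hp.out.one_lt).mp h1
  have h4 := (Nat.pow_le_pow_iff_right hp.out.one_lt).mp h2
  exact h.not_comm_subgroup hHP (by rw [hj, show j = 3 by omega])

theorem Cube.mid_through (h : Cube P) {x : G} (hx : x ∈ (P : Subgroup G)) (hxz : x ∉ zc P) :
    ∃! E : Mid P, x ∈ E.1 := by
  set H := Subgroup.closure ((zc P : Set G) ∪ {x}) with hH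
  have hcomm : ∀ a ∈ ((zc P : Set G) ∪ {x}), ∀ b ∈ ((zc P : Set G) ∪ {x}), a * b = b * a := by
    rintro a (ha | rfl) b (hb | rfl)
    · exact (((mem_zc P).mp ha).2 b (zc_le P hb)).symm
    · exact (((mem_zc P).mp ha).2 _ hx).symm
    · exact ((mem_zc P).mp hb).2 _ hx
    · rfl
  have : IsMulCommutative H := Subgroup.isMulCommutative_closure hcomm
  have hHP : H ≤ (P : Subgroup G) :=
    (Subgroup.closure_le _).mpr (Set.union_subset (zc_le P) (Set.singleton_subset_iff.mpr hx))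
  have hlt : zc P < H := lt_of_le_of_ne (fun a ha => Subgroup.subset_closure (Or.inl ha))
    fun e => hxz (e ▸ Subgroup.subset_closure (Or.inr rfl))
  have h1 := Set.Finite.card_lt_card (Set.toFinite _) hlt
  change Nat.card (zc P) < Nat.card H at h1
  obtain ⟨j, hj⟩ := (P.2.to_le hHP).exists_card_eq
  have h2 : Nat.card H ≤ p ^ 3 := h.card ▸ Subgroup.card_le_of_le hHP
  have h5 := h.not_comm_subgroup hHP
  rw [h.card_zc, hj, show p = p ^ 1 from (pow_one p).symm, ← pow_mul, one_mul] at h1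
  rw [hj] at h2 h5
  have h3 := (Nat.pow_lt_pow_iff_right hp.out.one_lt).mp h1
  have h4 := (Nat.pow_le_pow_iff_right hp.out.one_lt).mp h2
  have hj2 : j = 2 := by
    by_contra hne
    exact h5 (by rw [show j = 3 by omega])
  subst hj2
  refine ⟨⟨H, hHP, hj⟩, Subgroup.subset_closure (Or.inr rfl), fun E hE => Subtype.ext ?_⟩
  exact (Subgroup.eq_of_le_of_card_ge
    ((Subgroup.closure_le _).mpr (Set.union_subset (h.zc_le_mid E) (Set.singleton_subset_iff.mpr hE)))
    (by rw [hj, E.2.2])).symm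

theorem Cube.card_mid (h : Cube P) : Nat.card (Mid P) = p + 1 := by
  classical
  have hfin : Finite (Mid P) := Subtype.finite
  have : Fintype (Mid P) := Fintype.ofFinite _
  have hset : ∀ H : Subgroup G, zc P ≤ H →
      Nat.card {g : G // g ∈ H ∧ g ∉ zc P} = Nat.card H - p := by
    intro H hH
    have h1 : Nat.card {g : G // g ∈ H ∧ g ∉ zc P} = ((H : Set G) \ (zc P : Set G)).ncard :=
      Nat.card_coe_set_eq ((H : Set G) \ (zc P : Set G))
    rw [h1, Set.ncard_sdiff hH (Set.toFinite _), ← Nat.card_coe_set_eq, ← Nat.card_coe_set_eq]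
    exact congrArg (fun n => Nat.card H - n) h.card_zc
  let f : (Σ E : Mid P, {g : G // g ∈ E.1 ∧ g ∉ zc P}) →
      {g : G // g ∈ (P : Subgroup G) ∧ g ∉ zc P} := fun s => ⟨s.2.1, s.1.2.1 s.2.2.1, s.2.2.2⟩
  have hf : Function.Bijective f := by
    constructor
    · rintro ⟨E, g, hg, hgz⟩ ⟨E', g', hg', hgz'⟩ he
      have hgg : g = g' := congrArg Subtype.val he
      subst hgg
      obtain rfl : E = E' := (h.mid_through (E.2.1 hg) hgz).unique hg hg'
      rfl
    · rintro ⟨g, hg, hgz⟩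
      obtain ⟨E, hE, -⟩ := h.mid_through hg hgz
      exact ⟨⟨E, g, hE, hgz⟩, rfl⟩
  have hmain := Nat.card_eq_of_bijective f hf
  rw [Nat.card_sigma, hset _ (zc_le P), h.card,
    Finset.sum_congr rfl (fun E _ => (hset _ (h.zc_le_mid E)).trans
      (congrArg (fun n => n - p) E.2.2)), Finset.sum_const, Finset.card_univ,
    ← Nat.card_eq_fintype_card, smul_eq_mul] at hmain
  obtain ⟨q, hq⟩ : ∃ q, p = q + 2 := ⟨p - 2, by have := hp.out.two_le; omega⟩
  refine Nat.eq_of_mul_eq_mul_right (m := p ^ 2 - p) ?_ (hmain.trans ?_)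
  · have := Nat.pow_lt_pow_right hp.out.one_lt (show 1 < 2 by norm_num)
    rw [pow_one] at this
    exact Nat.sub_pos_of_lt this
  · rw [hq]
    have e1 : (q + 2) ^ 2 - (q + 2) = (q + 2) * (q + 1) := by
      rw [Nat.sub_eq_iff_eq_add (Nat.le_self_pow (by norm_num) _)]; ring
    rw [e1, Nat.sub_eq_iff_eq_add (Nat.le_self_pow (by norm_num) _)]
    ring

/-- Elements of `P` centralising a non-central element of `E` lie in `E`. -/
theorem Cube.centralizer_mem (h : Cube P) (E : Mid P) {x u : G} (hxE : x ∈ E.1) (hxz : x ∉ zc P)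
    (hu : u ∈ (P : Subgroup G)) (hc : u * x = x * u) : u ∈ E.1 := by
  by_contra huE
  set H := Subgroup.centralizer ({x} : Set G) ⊓ (P : Subgroup G) with hH
  have hHP : H ≤ (P : Subgroup G) := inf_le_right
  have hlt : E.1 < H := lt_of_le_of_ne
    (fun a ha => ⟨Subgroup.mem_centralizer_singleton_iff.mpr (h.pairwise E.2.2 a ha x hxE), E.2.1 ha⟩)
    fun e => huE (e ▸ ⟨Subgroup.mem_centralizer_singleton_iff.mpr hc, hu⟩)
  have h1 := Set.Finite.card_lt_card (Set.toFinite _) hlt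
  change Nat.card E.1 < Nat.card H at h1
  obtain ⟨j, hj⟩ := (P.2.to_le hHP).exists_card_eq
  have h2 : Nat.card H ≤ p ^ 3 := h.card ▸ Subgroup.card_le_of_le hHP
  rw [E.2.2, hj] at h1
  rw [hj] at h2
  have h3 := (Nat.pow_lt_pow_iff_right hp.out.one_lt).mp h1
  have h4 := (Nat.pow_le_pow_iff_right hp.out.one_lt).mp h2
  have he : H = (P : Subgroup G) := Subgroup.eq_of_le_of_card_ge hHP
    (by rw [h.card, hj, show j = 3 by omega])
  refine hxz ((mem_zc P).mpr ⟨E.2.1 hxE, fun y hy => ?_⟩)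
  rw [← he] at hy
  exact Subgroup.mem_centralizer_singleton_iff.mp hy.1

theorem Cube.comm_mem_zc (h : Cube P) {a b : G} (ha : a ∈ (P : Subgroup G))
    (hb : b ∈ (P : Subgroup G)) : a * b * a⁻¹ * b⁻¹ ∈ zc P := by
  by_cases hbz : b ∈ zc P
  · have := ((mem_zc P).mp hbz).2 a ha
    rw [this]
    simp
  by_cases haz : a ∈ zc P
  · have := ((mem_zc P).mp haz).2 b hb
    rw [← this]
    simp
  -- the quotient of `P` by its centre has order `p ^ 2`
  have hq : Nat.card ((P : Subgroup G) ⧸ Subgroup.center (P : Subgroup G)) = p ^ 2 := by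
    have hmul := (Subgroup.center (P : Subgroup G)).card_eq_card_quotient_mul_card_subgroup
    have hc := h.card_zc
    rw [zc, Subgroup.card_map_of_injective (P : Subgroup G).subtype_injective] at hc
    rw [h.card, hc] at hmul
    exact Nat.eq_of_mul_eq_mul_right hp.out.pos (by rw [← hmul]; ring)
  have := IsPGroup.isMulCommutative_of_card_eq_prime_sq hq
  refine ⟨⟨_, mul_mem (mul_mem (mul_mem ha hb) (inv_mem ha)) (inv_mem hb)⟩, ?_, rfl⟩
  have hmem : (⟨a, ha⟩ * ⟨b, hb⟩ * ⟨a, ha⟩⁻¹ * ⟨b, hb⟩⁻¹ : (P : Subgroup G)) ∈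
      Subgroup.center (P : Subgroup G) := by
    rw [← QuotientGroup.eq_one_iff]
    simp only [QuotientGroup.mk_mul, QuotientGroup.mk_inv]
    rw [mul_comm' ((⟨a, ha⟩ : (P : Subgroup G)) : (P : Subgroup G) ⧸ Subgroup.center (P : Subgroup G))]
    simp
  exact hmem

theorem Cube.mid_normal (h : Cube P) (E : Mid P) {g e : G} (hg : g ∈ (P : Subgroup G))
    (he : e ∈ E.1) : g * e * g⁻¹ ∈ E.1 := by
  have := mul_mem (h.zc_le_mid E (h.comm_mem_zc hg (E.2.1 he))) he
  rwa [show g * e * g⁻¹ * e⁻¹ * e = g * e * g⁻¹ by group] at this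

/-- Conjugation by an element of the normalizer preserves the centre. -/
theorem conj_mem_zc {n z : G} (hn : n ∈ Subgroup.normalizer ((P : Subgroup G) : Set G))
    (hz : z ∈ zc P) : n * z * n⁻¹ ∈ zc P := by
  obtain ⟨hzP, hc⟩ := (mem_zc P).mp hz
  refine (mem_zc P).mpr ⟨(Subgroup.mem_normalizer_iff.mp hn z).mp hzP, fun y hy => ?_⟩
  have hy' : n⁻¹ * y * n ∈ (P : Subgroup G) := by
    rw [Subgroup.mem_normalizer_iff.mp hn]
    rwa [show n * (n⁻¹ * y * n) * n⁻¹ = y by group]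
  calc y * (n * z * n⁻¹) = n * ((n⁻¹ * y * n) * z) * n⁻¹ := by group
    _ = n * (z * (n⁻¹ * y * n)) * n⁻¹ := by rw [hc _ hy']
    _ = _ := by group

theorem map_le_of_card {E : Subgroup G} {E' : Subgroup G} {g : G}
    (hle : ∀ e ∈ E, g * e * g⁻¹ ∈ E') (hc : Nat.card E' ≤ Nat.card E) :
    E.map (MulAut.conj g).toMonoidHom = E' :=
  Subgroup.eq_of_le_of_card_ge (by rintro _ ⟨e, he, rfl⟩; exact hle e he)
    (by rw [Subgroup.card_map_of_injective (MulAut.conj g).injective]; exact hc)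

theorem mem_conj_iff {E E' : Subgroup G} {g : G}
    (he : E.map (MulAut.conj g).toMonoidHom = E') (e : G) : g * e * g⁻¹ ∈ E' ↔ e ∈ E := by
  rw [← he]
  exact Subgroup.mem_map_iff_mem (MulAut.conj g).injective

variable (P)

/-- Equal order conjugacy for this prime. -/
def SameConj (p : ℕ) (G : Type*) [Group G] : Prop :=
  ∀ H K : Subgroup G, IsPGroup p H → IsPGroup p K → Nat.card H = Nat.card K →
    ∃ g : G, K = H.map (MulAut.conj g).toMonoidHom

variable {P}

theorem Cube.transitive (h : Cube P) (hD : SameConj p G) (E E' : Mid P) :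
    ∃ n ∈ Subgroup.normalizer ((P : Subgroup G) : Set G),
      E.1.map (MulAut.conj n).toMonoidHom = E'.1 := by
  obtain ⟨g, hg⟩ := hD E.1 E'.1 (P.2.to_le E.2.1) (P.2.to_le E'.2.1) (E.2.2.trans E'.2.2.symm)
  have hg' := mem_conj_iff hg.symm
  have hnorm : ∀ (F : Mid P) (q : G), q ∈ (P : Subgroup G) →
      q ∈ Subgroup.normalizer (F.1 : Set G) := by
    intro F q hq
    refine Subgroup.mem_normalizer_iff.mpr fun e => ⟨h.mid_normal F hq, fun he => ?_⟩
    have := h.mid_normal F (inv_mem hq) he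
    simpa [mul_assoc] using this
  have hQ : ((g • P : Sylow p G) : Subgroup G) ≤ Subgroup.normalizer (E'.1 : Set G) := by
    rintro _ ⟨q, hq, rfl⟩
    show g * q * g⁻¹ ∈ _
    refine Subgroup.mem_normalizer_iff.mpr fun e => ?_
    have he1 : e = g * (g⁻¹ * e * g) * g⁻¹ := by group
    rw [he1, hg', show g * q * g⁻¹ * (g * (g⁻¹ * e * g) * g⁻¹) * (g * q * g⁻¹)⁻¹ =
      g * (q * (g⁻¹ * e * g) * q⁻¹) * g⁻¹ by group, hg',
      ← Subgroup.mem_normalizer_iff.mp (hnorm E q hq)]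
  obtain ⟨m, hm, hmx⟩ := sylow_conj_inside P (g • P) (fun q hq => hnorm E' q hq) hQ
  have hnP : ∀ q ∈ (P : Subgroup G), (m * g) * q * (m * g)⁻¹ ∈ (P : Subgroup G) := by
    intro q hq
    have := hmx (g * q * g⁻¹) ⟨q, hq, rfl⟩
    rwa [show (m * g) * q * (m * g)⁻¹ = m * (g * q * g⁻¹) * m⁻¹ by group]
  refine ⟨m * g, ?_, map_le_of_card (fun e he => ?_) (le_of_eq (E'.2.2.trans E.2.2.symm))⟩
  · have hmap := map_le_of_card hnP (le_refl _)
    exact Subgroup.mem_normalizer_iff.mpr fun q => (mem_conj_iff hmap q).symm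
  · rw [show (m * g) * e * (m * g)⁻¹ = m * (g * e * g⁻¹) * m⁻¹ by group,
      ← Subgroup.mem_normalizer_iff.mp hm]
    exact (hg' e).mpr he

theorem Cube.exists_move (h : Cube P) (hD : SameConj p G) (E : Mid P) {x : G} (hx : x ∈ E.1)
    (hxz : x ∉ zc P) :
    ∃ g : G, g ∈ Subgroup.normalizer (E.1 : Set G) ∧ g * x * g⁻¹ ∈ zc P := by
  have hxp : x ^ p = 1 := h.exp x (E.2.1 hx)
  have hox : orderOf x = p := orderOf_eq_prime hxp fun e => hxz (e ▸ one_mem _)
  obtain ⟨g, hg⟩ := hD (Subgroup.zpowers x) (zc P)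
    (P.2.to_le (Subgroup.zpowers_le.mpr (E.2.1 hx))) (P.2.to_le (zc_le P))
    (by rw [Nat.card_zpowers, hox, h.card_zc])
  set C := Subgroup.centralizer (zc P : Set G) with hC
  have hPC : (P : Subgroup G) ≤ C := fun q hq z hz => (((mem_zc P).mp hz).2 q hq).symm
  have hEC : E.1.map (MulAut.conj g).toMonoidHom ≤ C := by
    rintro _ ⟨e, he, rfl⟩ z hz
    show z * (g * e * g⁻¹) = g * e * g⁻¹ * z
    rw [hg] at hz
    obtain ⟨w, hw, rfl⟩ := hz
    have hwe : w * e = e * w :=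
      h.pairwise E.2.2 w (Subgroup.zpowers_le.mpr hx hw) e he
    show g * w * g⁻¹ * (g * e * g⁻¹) = g * e * g⁻¹ * (g * w * g⁻¹)
    calc _ = g * (w * e) * g⁻¹ := by group
      _ = g * (e * w) * g⁻¹ := by rw [hwe]
      _ = _ := by group
  have hpg : IsPGroup p ((E.1.map (MulAut.conj g).toMonoidHom).subgroupOf C) :=
    ((P.2.to_le E.2.1).map _).comap_subtype
  obtain ⟨Q, hQ⟩ := hpg.exists_le_sylow
  obtain ⟨c, hc⟩ := MulAction.exists_smul_eq C Q (P.subtype hPC)
  have hcE : ∀ e ∈ E.1, (c : G) * (g * e * g⁻¹) * (c : G)⁻¹ ∈ (P : Subgroup G) := by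
    intro e he
    have h1 : (⟨g * e * g⁻¹, hEC ⟨e, he, rfl⟩⟩ : C) ∈ (Q : Subgroup C) :=
      hQ (show g * e * g⁻¹ ∈ E.1.map (MulAut.conj g).toMonoidHom from ⟨e, he, rfl⟩)
    have h2 : c * ⟨g * e * g⁻¹, hEC ⟨e, he, rfl⟩⟩ * c⁻¹ ∈ ((c • Q : Sylow p C) : Subgroup C) :=
      ⟨_, h1, rfl⟩
    rw [hc] at h2
    exact h2
  let E₁ : Mid P := ⟨E.1.map (MulAut.conj ((c : G) * g)).toMonoidHom, by
      rintro _ ⟨e, he, rfl⟩
      show (c : G) * g * e * ((c : G) * g)⁻¹ ∈ _
      rw [show (c : G) * g * e * ((c : G) * g)⁻¹ = (c : G) * (g * e * g⁻¹) * (c : G)⁻¹ by group]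
      exact hcE e he, by
      rw [Subgroup.card_map_of_injective (MulAut.conj _).injective, E.2.2]⟩
  obtain ⟨n, hn, hnE⟩ := h.transitive hD E₁ E
  refine ⟨n * ((c : G) * g), ?_, ?_⟩
  · refine Subgroup.mem_normalizer_iff.mpr fun e => ?_
    rw [show n * ((c : G) * g) * e * (n * ((c : G) * g))⁻¹ =
      n * ((c : G) * g * e * ((c : G) * g)⁻¹) * n⁻¹ by group, mem_conj_iff hnE]
    exact (Subgroup.mem_map_iff_mem (MulAut.conj ((c : G) * g)).injective).symm
  · have h1 : g * x * g⁻¹ ∈ zc P := by rw [hg]; exact ⟨x, Subgroup.mem_zpowers x, rfl⟩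
    have h2 : (c : G) * (g * x * g⁻¹) * (c : G)⁻¹ = g * x * g⁻¹ := by
      rw [← c.2 _ h1]; group
    rw [show n * ((c : G) * g) * x * (n * ((c : G) * g))⁻¹ =
      n * ((c : G) * (g * x * g⁻¹) * (c : G)⁻¹) * n⁻¹ by group, h2]
    exact conj_mem_zc hn h1

/-- An element of `P` multiplying `x` by a prescribed central element. -/
theorem Cube.exists_shift (h : Cube P) (E : Mid P) {x z : G} (hx : x ∈ E.1) (hxz : x ∉ zc P)
    (hz : z ∈ zc P) : ∃ y ∈ (P : Subgroup G), y * x * y⁻¹ = x * z := by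
  classical
  obtain ⟨y, hy, hne⟩ : ∃ y ∈ (P : Subgroup G), y * x ≠ x * y := by
    by_contra hall
    push Not at hall
    exact hxz ((mem_zc P).mpr ⟨E.2.1 hx, hall⟩)
  set w := x⁻¹ * (y * x * y⁻¹) with hw
  have hwz : w ∈ zc P := by
    have := h.comm_mem_zc (inv_mem (E.2.1 hx)) hy
    rwa [show x⁻¹ * y * x⁻¹⁻¹ * y⁻¹ = w by rw [hw]; group] at this
  have hw1 : w ≠ 1 := by
    intro e
    apply hne
    calc y * x = x * (x⁻¹ * (y * x * y⁻¹)) * y := by group
      _ = x * y := by rw [← hw, e, mul_one]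
  have hzw : z ∈ Subgroup.zpowers w := by
    rw [Subgroup.eq_of_le_of_card_ge (Subgroup.zpowers_le.mpr hwz) (by
      rw [Nat.card_zpowers, h.card_zc, orderOf_eq_prime (h.exp w (zc_le P hwz)) hw1])]
    exact hz
  obtain ⟨i, -, hi⟩ := Finset.mem_image.mp (mem_zpowers_iff_mem_range_orderOf.mp hzw)
  refine ⟨y ^ i, pow_mem hy i, ?_⟩
  rw [← hi]
  clear hi
  induction i with
  | zero => simp
  | succ k ih =>
    have hcy : y * w = w * y := ((mem_zc P).mp hwz).2 y hy
    calc y ^ (k + 1) * x * (y ^ (k + 1))⁻¹ = y * (y ^ k * x * (y ^ k)⁻¹) * y⁻¹ := by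
          rw [pow_succ']; group
      _ = y * (x * w ^ k) * y⁻¹ := by rw [ih]
      _ = (y * x * y⁻¹) * (y * w ^ k * y⁻¹) := by group
      _ = (x * w) * w ^ k := by
          rw [(Commute.pow_right hcy k).eq, mul_inv_cancel_right, hw, mul_inv_cancel_left]
      _ = x * w ^ (k + 1) := by rw [pow_succ', mul_assoc]

theorem Cube.exists_inverting (h : Cube P) (hD : SameConj p G) (E : Mid P) :
    ∃ m : G, ∀ e ∈ E.1, m * e * m⁻¹ = e⁻¹ := by
  obtain ⟨x, hx, hxz⟩ : ∃ x ∈ E.1, x ∉ zc P := by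
    by_contra hall
    push Not at hall
    have h1 := Subgroup.card_le_of_le hall
    rw [E.2.2, h.card_zc] at h1
    exact absurd h1 (not_le_of_gt (by simpa using Nat.pow_lt_pow_right hp.out.one_lt (show 1 < 2 by norm_num)))
  obtain ⟨g, hgE, hgx⟩ := h.exists_move hD E hx hxz
  set z := g * x * g⁻¹ with hz
  set z' := g * z * g⁻¹ with hz'
  have hzE : z ∈ E.1 := h.zc_le_mid E hgx
  have hz'E : z' ∈ E.1 := (Subgroup.mem_normalizer_iff.mp hgE z).mp hzE
  have hz1 : z ≠ 1 := by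
    intro e
    apply hxz
    have : x = 1 := by
      rw [show x = g⁻¹ * (g * x * g⁻¹) * g by group, ← hz, e]; group
    rw [this]
    exact one_mem _
  have hzgen : Subgroup.zpowers z = zc P :=
    Subgroup.eq_of_le_of_card_ge (Subgroup.zpowers_le.mpr hgx) (by
      rw [Nat.card_zpowers, h.card_zc, orderOf_eq_prime (h.exp z (zc_le P hgx)) hz1])
  have hz'z : z' ∉ zc P := by
    intro hmem
    apply hxz
    have hmap : (zc P).map (MulAut.conj g).toMonoidHom = zc P := by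
      refine map_le_of_card (fun a ha => ?_) le_rfl
      rw [← hzgen] at ha
      obtain ⟨k, rfl⟩ := ha
      show g * z ^ k * g⁻¹ ∈ _
      rw [← conj_zpow]
      exact zpow_mem hmem k
    exact (mem_conj_iff hmap x).mp (hz ▸ hgx)
  obtain ⟨y, hy, hyz⟩ := h.exists_shift E hz'E hz'z hgx
  obtain ⟨u, hu, hux⟩ := h.exists_shift E hx hxz (inv_mem hgx)
  set a := MulAut.conj y with ha
  set b := MulAut.conj (g * u * g⁻¹) with hb
  have haz : a z = z := by
    show y * z * y⁻¹ = z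
    rw [((mem_zc P).mp hgx).2 y hy, mul_inv_cancel_right]
  have haz' : a z' = z' * z := hyz
  have hbz : b z = z * z'⁻¹ := by
    show g * u * g⁻¹ * z * (g * u * g⁻¹)⁻¹ = z * z'⁻¹
    calc g * u * g⁻¹ * z * (g * u * g⁻¹)⁻¹ = g * (u * x * u⁻¹) * g⁻¹ := by rw [hz]; group
      _ = g * (x * z⁻¹) * g⁻¹ := by rw [hux]
      _ = (g * x * g⁻¹) * (g * z * g⁻¹)⁻¹ := by group
      _ = z * z'⁻¹ := by rw [← hz, ← hz']
  have hbz' : b z' = z' := by
    show g * u * g⁻¹ * z' * (g * u * g⁻¹)⁻¹ = z'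
    calc g * u * g⁻¹ * z' * (g * u * g⁻¹)⁻¹ = g * (u * z * u⁻¹) * g⁻¹ := by rw [hz']; group
      _ = z' := by rw [((mem_zc P).mp hgx).2 u hu, mul_inv_cancel_right, ← hz']
  have hcom : z * z' = z' * z := h.pairwise E.2.2 z hzE z' hz'E
  have hw1 : a (b (a z)) = z'⁻¹ := by
    rw [haz, hbz, map_mul, map_inv, haz, haz', mul_inv_rev, mul_inv_cancel_left]
  have hw2 : a (b (a z')) = z := by
    rw [haz', map_mul, hbz', hbz, ← mul_assoc, ← hcom, mul_inv_cancel_right, haz]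
  set w := y * (g * u * g⁻¹) * y with hw
  have hconj : ∀ e, MulAut.conj w e = a (b (a e)) := fun e => by
    show w * e * w⁻¹ = y * (g * u * g⁻¹ * (y * e * y⁻¹) * (g * u * g⁻¹)⁻¹) * y⁻¹
    rw [hw]; group
  have hsq : ∀ e, MulAut.conj (w * w) e = MulAut.conj w (MulAut.conj w e) := fun e => by
    rw [map_mul]; rfl
  refine ⟨w * w, fun e he => ?_⟩
  have hgen : e ∈ Subgroup.closure ({z, z'} : Set G) := by
    have hle : Subgroup.closure ({z, z'} : Set G) ≤ E.1 :=
      (Subgroup.closure_le _).mpr (by rintro t (rfl | rfl) <;> assumption)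
    have hlt : zc P < Subgroup.closure ({z, z'} : Set G) := by
      refine lt_of_le_of_ne ?_ fun e => hz'z (e ▸ Subgroup.subset_closure (by simp))
      rw [← hzgen]
      exact Subgroup.zpowers_le.mpr (Subgroup.subset_closure (by simp))
    have h1 := Set.Finite.card_lt_card (Set.toFinite _) hlt
    change Nat.card (zc P) < Nat.card _ at h1
    obtain ⟨j, hj⟩ := ((P.2.to_le E.2.1).to_le hle).exists_card_eq
    replace h1 : p < p ^ j := by
      have h1' : Nat.card (zc P) < Nat.card ↥(Subgroup.closure ({z, z'} : Set G)) := h1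
      rwa [h.card_zc, hj] at h1'
    rwa [Subgroup.eq_of_le_of_card_ge hle (by
      rw [E.2.2, hj]
      refine Nat.pow_le_pow_right hp.out.pos ?_
      by_contra hj2
      interval_cases j <;> simp at h1
      exact absurd h1 (by have := hp.out.one_lt; omega))]
  show MulAut.conj (w * w) e = e⁻¹
  induction hgen using Subgroup.closure_induction with
  | mem t ht =>
    rcases ht with rfl | rfl
    · rw [hsq, hconj z, hw1, map_inv, hconj z', hw2]
    · rw [hsq, hconj z', hw2, hconj z, hw1]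
  | one => simp
  | mul s t hs ht ihs iht =>
    have hle : Subgroup.closure ({z, z'} : Set G) ≤ E.1 :=
      (Subgroup.closure_le _).mpr (by rintro v (rfl | rfl) <;> assumption)
    rw [map_mul, ihs (hle hs), iht (hle ht), ← mul_inv_rev,
      h.pairwise E.2.2 t (hle ht) s (hle hs)]
  | inv s hs ihs =>
    rw [map_inv, ihs (by simpa using inv_mem he)]

theorem Cube.exists_two_inverting (h : Cube P) (hD : SameConj p G) (E : Mid P) :
    ∃ n : G, (∃ k : ℕ, orderOf n = 2 ^ k) ∧ n ∈ Subgroup.normalizer ((P : Subgroup G) : Set G) ∧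
      ∀ e ∈ E.1, n * e * n⁻¹ = e⁻¹ := by
  obtain ⟨m, hm⟩ := h.exists_inverting hD E
  let K : Subgroup G :=
    { carrier := {g | ∃ q ∈ (P : Subgroup G), ∀ e ∈ E.1, g * e * g⁻¹ = q * e * q⁻¹}
      one_mem' := ⟨1, one_mem _, fun e _ => rfl⟩
      mul_mem' := by
        rintro g g' ⟨q, hq, h1⟩ ⟨q', hq', h2⟩
        refine ⟨q * q', mul_mem hq hq', fun e he => ?_⟩
        calc g * g' * e * (g * g')⁻¹ = g * (g' * e * g'⁻¹) * g⁻¹ := by group
          _ = q * (q' * e * q'⁻¹) * q⁻¹ := by rw [h2 e he, h1 _ (h.mid_normal E hq' he)]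
          _ = _ := by group
      inv_mem' := by
        rintro g ⟨q, hq, h1⟩
        refine ⟨q⁻¹, inv_mem hq, fun e he => ?_⟩
        have he' : q⁻¹ * e * q ∈ E.1 := by simpa using h.mid_normal E (inv_mem hq) he
        have h2 : g * (q⁻¹ * e * q) * g⁻¹ = e := by rw [h1 _ he']; group
        calc g⁻¹ * e * g⁻¹⁻¹ = g⁻¹ * (g * (q⁻¹ * e * q) * g⁻¹) * g := by rw [h2, inv_inv]
          _ = _ := by group }
  have hPK : (P : Subgroup G) ≤ K := fun q hq => ⟨q, hq, fun e _ => rfl⟩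
  have hQK : ((m • P : Sylow p G) : Subgroup G) ≤ K := by
    rintro _ ⟨q, hq, rfl⟩
    refine ⟨q, hq, fun e he => ?_⟩
    show m * q * m⁻¹ * e * (m * q * m⁻¹)⁻¹ = q * e * q⁻¹
    have hme : m * e⁻¹ * m⁻¹ = e := by rw [hm _ (inv_mem he), inv_inv]
    calc m * q * m⁻¹ * e * (m * q * m⁻¹)⁻¹ =
        m * q * m⁻¹ * (m * e⁻¹ * m⁻¹) * (m * q * m⁻¹)⁻¹ := by rw [hme]
      _ = m * (q * e⁻¹ * q⁻¹) * m⁻¹ := by group
      _ = (q * e⁻¹ * q⁻¹)⁻¹ := hm _ (h.mid_normal E hq (inv_mem he))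
      _ = q * e * q⁻¹ := by group
  obtain ⟨k, ⟨q, hq, hkq⟩, hk⟩ := sylow_conj_inside P (m • P) hPK hQK
  set n₀ := q⁻¹ * k * m with hn₀
  have hnorm : n₀ ∈ Subgroup.normalizer ((P : Subgroup G) : Set G) := by
    have hle : ∀ a ∈ (P : Subgroup G), n₀ * a * n₀⁻¹ ∈ (P : Subgroup G) := by
      intro a ha
      have h1 := hk (m * a * m⁻¹) ⟨a, ha, rfl⟩
      have h2 := mul_mem (mul_mem (inv_mem hq) h1) hq
      rwa [show q⁻¹ * (k * (m * a * m⁻¹) * k⁻¹) * q = n₀ * a * n₀⁻¹ by rw [hn₀]; group] at h2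
    have hmap := map_le_of_card hle (le_refl _)
    exact Subgroup.mem_normalizer_iff.mpr fun a => (mem_conj_iff hmap a).symm
  have hinv : ∀ e ∈ E.1, n₀ * e * n₀⁻¹ = e⁻¹ := by
    intro e he
    calc n₀ * e * n₀⁻¹ = q⁻¹ * (k * (m * e * m⁻¹) * k⁻¹) * q := by rw [hn₀]; group
      _ = q⁻¹ * (q * e⁻¹ * q⁻¹) * q := by rw [hm e he, hkq _ (inv_mem he)]
      _ = e⁻¹ := by group
  have hpos := (orderOf_pos n₀).ne'
  obtain ⟨j, o, ho, hjo⟩ := Nat.exists_eq_pow_mul_and_not_dvd hpos 2 (by norm_num)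
  refine ⟨n₀ ^ o, ⟨j, ?_⟩, pow_mem hnorm o, fun e he => ?_⟩
  · have hopos : o ≠ 0 := by rintro rfl; exact ho (dvd_zero 2)
    rw [orderOf_pow_of_dvd hopos (hjo ▸ dvd_mul_left o (2 ^ j)), hjo,
      Nat.mul_div_cancel _ (Nat.pos_of_ne_zero hopos)]
  · obtain ⟨i, hi⟩ : ∃ i, o = 2 * i + 1 := ⟨o / 2, by omega⟩
    have hev : ∀ i : ℕ, n₀ ^ (2 * i) * e * (n₀ ^ (2 * i))⁻¹ = e := by
      intro i
      induction i with
      | zero => simp
      | succ l ih =>
        calc n₀ ^ (2 * (l + 1)) * e * (n₀ ^ (2 * (l + 1)))⁻¹ =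
            n₀ ^ (2 * l) * (n₀ * (n₀ * e * n₀⁻¹) * n₀⁻¹) * (n₀ ^ (2 * l))⁻¹ := by
              rw [show 2 * (l + 1) = 2 * l + 1 + 1 by ring, pow_succ, pow_succ]; group
          _ = e := by rw [hinv e he, hinv _ (inv_mem he), inv_inv, ih]
    rw [hi, pow_succ']
    calc n₀ * n₀ ^ (2 * i) * e * (n₀ * n₀ ^ (2 * i))⁻¹ =
        n₀ * (n₀ ^ (2 * i) * e * (n₀ ^ (2 * i))⁻¹) * n₀⁻¹ := by group
      _ = e⁻¹ := by rw [hev, hinv e he]

/-- The Sylow 2-subgroups make the inverting element commute with a Sylow 2-subgroup of the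
normalizer, which therefore fixes `E`: but `E` has an even number of conjugates. -/
theorem Cube.false_of_two (h : Cube P) (hD : SameConj p G)
    (hT : ∀ S : Sylow 2 G, ∀ a ∈ (S : Subgroup G), ∀ b ∈ (S : Subgroup G),
      a * b = b * a ∨ a * b = b * a * (a * a)) : False := by
  classical
  have hfin : Finite (Mid P) := Subtype.finite
  obtain ⟨E⟩ : Nonempty (Mid P) := (Nat.card_pos_iff.mp (h.card_mid ▸ Nat.succ_pos p)).1
  obtain ⟨n, ⟨k, hk⟩, hnP, hn⟩ := h.exists_two_inverting hD E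
  obtain ⟨x, hx, hxz⟩ : ∃ x ∈ E.1, x ∉ zc P := by
    by_contra hall
    push Not at hall
    have h1 := Subgroup.card_le_of_le hall
    rw [E.2.2, h.card_zc] at h1
    exact absurd h1 (not_le_of_gt (by simpa using Nat.pow_lt_pow_right hp.out.one_lt (show 1 < 2 by norm_num)))
  have hnorm : ∀ g ∈ (P : Subgroup G), n * g * n⁻¹ * g⁻¹ ∈ E.1 := by
    intro g hg
    have hg' : n * g * n⁻¹ ∈ (P : Subgroup G) := (Subgroup.mem_normalizer_iff.mp hnP g).mp hg
    refine h.centralizer_mem E (inv_mem hx) (fun e => hxz (by simpa using e))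
      (mul_mem hg' (inv_mem hg)) ?_
    set c := x * g * x⁻¹ * g⁻¹ with hc
    have hcz : c ∈ zc P := h.comm_mem_zc (E.2.1 hx) hg
    have hcc : ∀ v ∈ (P : Subgroup G), v * c = c * v := ((mem_zc P).mp hcz).2
    have hnc : n * c * n⁻¹ = c⁻¹ := hn c (h.zc_le_mid E hcz)
    have h1 : x⁻¹ * g * x = c⁻¹ * g := by
      have : x * g * x⁻¹ = c * g := by rw [hc]; group
      calc x⁻¹ * g * x = c⁻¹ * (c * (x⁻¹ * g * x)) := by group
        _ = c⁻¹ * (x⁻¹ * (c * g) * x) := by
          rw [show c * (x⁻¹ * g * x) = c * x⁻¹ * (g * x) by group,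
            show x⁻¹ * (c * g) * x = x⁻¹ * c * (g * x) by group, hcc x⁻¹ (inv_mem (E.2.1 hx))]
        _ = c⁻¹ * g := by rw [← this]; group
    have h2 : x⁻¹ * (n * g * n⁻¹) * x = c⁻¹ * (n * g * n⁻¹) := by
      have hnx : n * x * n⁻¹ = x⁻¹ := hn x hx
      calc x⁻¹ * (n * g * n⁻¹) * x = (n * x * n⁻¹) * (n * g * n⁻¹) * (n * x * n⁻¹)⁻¹ := by
            rw [hnx, inv_inv]
        _ = n * (x * g * x⁻¹) * n⁻¹ := by group
        _ = (n * c * n⁻¹) * (n * g * n⁻¹) := by rw [hc]; group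
        _ = _ := by rw [hnc]
    have h3 : x⁻¹ * (n * g * n⁻¹ * g⁻¹) * x = n * g * n⁻¹ * g⁻¹ := by
      calc x⁻¹ * (n * g * n⁻¹ * g⁻¹) * x = (x⁻¹ * (n * g * n⁻¹) * x) * (x⁻¹ * g * x)⁻¹ := by group
        _ = c⁻¹ * (n * g * n⁻¹ * g⁻¹ * c) := by rw [h2, h1]; group
        _ = _ := by rw [hcc _ (mul_mem hg' (inv_mem hg)), inv_mul_cancel_left]
    calc n * g * n⁻¹ * g⁻¹ * x⁻¹ = x⁻¹ * (n * g * n⁻¹ * g⁻¹) * x * x⁻¹ := by rw [h3]
      _ = _ := by group
  have htriv : ∀ g ∈ (P : Subgroup G), n * n * g * (n * n)⁻¹ = g := by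
    intro g hg
    set e := n * g * n⁻¹ * g⁻¹ with he
    calc n * n * g * (n * n)⁻¹ = (n * e * n⁻¹) * (n * g * n⁻¹) := by rw [he]; group
      _ = e⁻¹ * (n * g * n⁻¹) := by rw [hn e (hnorm g hg)]
      _ = g := by rw [he]; group
  have hchar : ∀ g ∈ (P : Subgroup G), n * g * n⁻¹ * g ∈ zc P → g ∈ E.1 := by
    intro g hg hmem
    have h2 : g ^ 2 ∈ E.1 := by
      have := mul_mem (inv_mem (hnorm g hg)) (h.zc_le_mid E hmem)
      rwa [show (n * g * n⁻¹ * g⁻¹)⁻¹ * (n * g * n⁻¹ * g) = g ^ 2 by rw [pow_two]; group] at this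
    obtain ⟨i, hi⟩ := hp.out.odd_of_ne_two h.odd
    have : g = (g ^ 2) ^ (i + 1) := by
      rw [← pow_mul, show 2 * (i + 1) = p + 1 by omega, pow_succ, h.exp g hg, one_mul]
    rw [this]
    exact pow_mem h2 _
  set N := Subgroup.normalizer ((P : Subgroup G) : Set G) with hN
  have hn2 : IsPGroup 2 (Subgroup.zpowers (⟨n, hnP⟩ : N)) :=
    IsPGroup.of_card (n := k) (by rw [Nat.card_zpowers, Subgroup.orderOf_mk, hk])
  obtain ⟨T, hnT⟩ := hn2.exists_le_sylow
  obtain ⟨S, hS⟩ := (T.2.map N.subtype).exists_le_sylow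
  set A := (Subgroup.normalizer (E.1 : Set G)).subgroupOf N with hA
  have hTA : (T : Subgroup N) ≤ A := by
    intro s hs
    have hrel := hT S n (hS ⟨⟨n, hnP⟩, hnT (Subgroup.mem_zpowers _), rfl⟩) s (hS ⟨s, hs, rfl⟩)
    have hsP : ∀ g ∈ (P : Subgroup G), (s : G) * g * (s : G)⁻¹ ∈ (P : Subgroup G) := fun g hg =>
      (Subgroup.mem_normalizer_iff.mp s.2 g).mp hg
    have hcommute : ∀ g ∈ (P : Subgroup G),
        n * ((s : G) * g * (s : G)⁻¹) * n⁻¹ = (s : G) * (n * g * n⁻¹) * (s : G)⁻¹ := by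
      intro g hg
      have h1 : n * (s : G) * g * (n * (s : G))⁻¹ = (s : G) * n * g * ((s : G) * n)⁻¹ := by
        rcases hrel with h1 | h1
        · rw [h1]
        · calc n * (s : G) * g * (n * (s : G))⁻¹ =
              (s : G) * n * (n * n) * g * ((s : G) * n * (n * n))⁻¹ := by rw [h1]
            _ = (s : G) * n * (n * n * g * (n * n)⁻¹) * ((s : G) * n)⁻¹ := by group
            _ = _ := by rw [htriv g hg]
      calc _ = n * (s : G) * g * (n * (s : G))⁻¹ := by group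
        _ = (s : G) * n * g * ((s : G) * n)⁻¹ := h1
        _ = _ := by group
    have hle : ∀ e ∈ E.1, (s : G) * e * (s : G)⁻¹ ∈ E.1 := by
      intro e he
      refine hchar _ (hsP e (E.2.1 he)) ?_
      rw [hcommute e (E.2.1 he), hn e he,
        show (s : G) * e⁻¹ * (s : G)⁻¹ * ((s : G) * e * (s : G)⁻¹) = 1 by group]
      exact one_mem _
    rw [hA, Subgroup.mem_subgroupOf]
    have hmap := map_le_of_card hle (le_refl _)
    exact Subgroup.mem_normalizer_iff.mpr fun a => (mem_conj_iff hmap a).symm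
  let f : N → Mid P := fun g => ⟨E.1.map (MulAut.conj (g : G)).toMonoidHom, by
      rintro _ ⟨e, he, rfl⟩
      exact (Subgroup.mem_normalizer_iff.mp g.2 e).mp (E.2.1 he), by
      rw [Subgroup.card_map_of_injective (MulAut.conj _).injective, E.2.2]⟩
  have hiff : ∀ a b : N, f a = f b ↔ a⁻¹ * b ∈ A := by
    intro a b
    rw [hA, Subgroup.mem_subgroupOf, Subgroup.mem_normalizer_iff]
    constructor
    · intro hab e
      have heq : E.1.map (MulAut.conj (b : G)).toMonoidHom =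
          E.1.map (MulAut.conj (a : G)).toMonoidHom := (congrArg Subtype.val hab).symm
      have := (mem_conj_iff heq e).symm
      rw [this, ← Subgroup.mem_map_iff_mem (f := (MulAut.conj (a : G)).toMonoidHom)
        (MulAut.conj (a : G)).injective (x := ((a⁻¹ * b : N) : G) * e * ((a⁻¹ * b : N) : G)⁻¹)]
      simp [mul_assoc]
    · intro hab
      refine Subtype.ext (map_le_of_card (E := E.1) (g := (a : G)) (fun e he => ?_)
        (le_of_eq ((f b).2.2.trans E.2.2.symm)))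
      refine ⟨(b : G)⁻¹ * (a : G) * e * ((b : G)⁻¹ * (a : G))⁻¹, (hab _).mpr ?_, ?_⟩
      · simpa [mul_assoc] using he
      · show (b : G) * _ * (b : G)⁻¹ = _
        group
  let F : N ⧸ A → Mid P := fun q => Quotient.liftOn' q f fun a b hab =>
    (hiff a b).mpr (QuotientGroup.leftRel_apply.mp hab)
  have hF : Function.Bijective F := by
    constructor
    · intro q q' hq
      obtain ⟨a, rfl⟩ := QuotientGroup.mk_surjective q
      obtain ⟨b, rfl⟩ := QuotientGroup.mk_surjective q'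
      exact QuotientGroup.eq.mpr ((hiff a b).mp hq)
    · intro E'
      obtain ⟨g, hg, hgE⟩ := h.transitive hD E E'
      exact ⟨((⟨g, hg⟩ : N) : N ⧸ A), Subtype.ext hgE⟩
  have hidx : A.index = p + 1 := (Nat.card_eq_of_bijective F hF).trans h.card_mid
  have hdvd : A.index ∣ (T : Subgroup N).index := Subgroup.index_dvd_of_le hTA
  obtain ⟨i, hi⟩ := hp.out.odd_of_ne_two h.odd
  exact T.not_dvd_index (dvd_trans ⟨i + 1, by omega⟩ hdvd)

end CfsgLib.EqualOrderConj
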